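import Mathlib
import Groth.Agent.H9Hens.Pair

/-!
Lifting a finite separable residue field extension to a finite étale local algebra over an arbitrary
local ring (no Noetherian hypothesis).
-/

universe u

namespace Groth.Agent.H21Hens

theorem exists_etale_lift (A : Type u) [CommRing A] [IsLocalRing A] (l : Type u) [Field l]
    [Algebra (IsLocalRing.ResidueField A) l] [FiniteDimensional (IsLocalRing.ResidueField A) l]
    [Algebra.IsSeparable (IsLocalRing.ResidueField A) l] :
    ∃ (E : Type u) (_ : CommRing E) (_ : IsLocalRing E) (_ : Algebra A E),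
      Module.Finite A E ∧ Algebra.Etale A E ∧
        ∃ θ : l ≃+* IsLocalRing.ResidueField E, ∀ a : A,
          θ (algebraMap (IsLocalRing.ResidueField A) l (IsLocalRing.residue A a)) =
            IsLocalRing.residue E (algebraMap A E a) := by
  classical
  obtain ⟨α, hα⟩ := Field.exists_primitive_element (IsLocalRing.ResidueField A) l
  let k := IsLocalRing.ResidueField A
  let : Algebra A l := ((algebraMap k l).comp (algebraMap A k)).toAlgebra
  have : IsScalarTower A k l := IsScalarTower.of_algebraMap_eq fun a => rfl
  have hint : IsIntegral k α := Algebra.IsIntegral.isIntegral α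
  obtain ⟨p, hp, -, hpm⟩ := Polynomial.lifts_and_degree_eq_and_monic
    (Polynomial.lifts_iff_coeff_lifts (minpoly k α) |>.mpr fun n =>
      IsLocalRing.residue_surjective _) (minpoly.monic hint)
  let E := AdjoinRoot p
  have : Module.Finite A E := hpm.finite_adjoinRoot
  have hcop : IsCoprime p p.derivative := by
    refine Groth.Agent.H9Hens.isCoprime_of_map (I := IsLocalRing.maximalIdeal A)
      (IsLocalRing.maximalIdeal_le_jacobson ⊥) hpm ?_
    rw [← Polynomial.derivative_map]
    have := Algebra.IsSeparable.isSeparable k α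
    unfold IsSeparable Polynomial.Separable at this
    rwa [← hp] at this
  let φ : E →ₐ[A] l := AdjoinRoot.liftAlgHom p (Algebra.ofId A l) α
    (by
      change Polynomial.eval₂ (algebraMap A l) α p = 0
      rw [IsScalarTower.algebraMap_eq A k l, ← Polynomial.eval₂_map]
      have hres : algebraMap A k = IsLocalRing.residue A := rfl
      rw [hres, hp]; exact minpoly.aeval k α)
  have hφ : Function.Surjective φ := by
    intro y
    have : y ∈ (Algebra.adjoin k {α} : Subalgebra k l) := by
      rw [← IntermediateField.adjoin_simple_toSubalgebra_of_isAlgebraic hint.isAlgebraic, hα]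
      trivial
    rw [Algebra.adjoin_singleton_eq_range_aeval] at this
    obtain ⟨q, rfl⟩ := this
    obtain ⟨q', rfl⟩ := Polynomial.map_surjective _ IsLocalRing.residue_surjective q
    refine ⟨AdjoinRoot.mk p q', ?_⟩
    change φ _ = Polynomial.aeval α (q'.map (IsLocalRing.residue A))
    rw [← AdjoinRoot.aeval_eq, ← Polynomial.aeval_algHom_apply,
      show φ (AdjoinRoot.root p) = α from AdjoinRoot.liftAlgHom_root .., Polynomial.aeval_def,
      Polynomial.aeval_def, Polynomial.eval₂_map, IsScalarTower.algebraMap_eq A k l]
    rfl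
  have hker : RingHom.ker φ ≤ (IsLocalRing.maximalIdeal A).map (algebraMap A E) := by
    intro z hz
    obtain ⟨q, rfl⟩ := AdjoinRoot.mk_surjective z
    rw [RingHom.mem_ker, ← AdjoinRoot.aeval_eq, ← Polynomial.aeval_algHom_apply,
      show φ (AdjoinRoot.root p) = α from AdjoinRoot.liftAlgHom_root ..,
      ← Polynomial.aeval_map_algebraMap k] at hz
    obtain ⟨r, hr⟩ := minpoly.dvd k α hz
    obtain ⟨r', rfl⟩ := Polynomial.map_surjective _ IsLocalRing.residue_surjective r
    have : q - p * r' ∈ RingHom.ker (Polynomial.mapRingHom (IsLocalRing.residue A)) := by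
      rw [RingHom.mem_ker, map_sub, map_mul]
      simp only [Polynomial.coe_mapRingHom, hp, ← hr]
      exact sub_self _
    rw [Polynomial.ker_mapRingHom, IsLocalRing.ker_residue] at this
    have := Ideal.mem_map_of_mem (AdjoinRoot.mk p) this
    rw [map_sub, map_mul, AdjoinRoot.mk_self, zero_mul, sub_zero, Ideal.map_map] at this
    exact this
  have hmax : (RingHom.ker φ).IsMaximal := RingHom.ker_isMaximal_of_surjective φ hφ
  have : IsLocalRing E := IsLocalRing.of_unique_max_ideal ⟨_, hmax, fun M hM => by
    have := hM.isPrime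
    have h1 : (IsLocalRing.maximalIdeal A).map (algebraMap A E) ≤ M := by
      rw [Ideal.map_le_iff_le_comap]
      exact (IsLocalRing.eq_maximalIdeal
        (Ideal.isMaximal_comap_of_isIntegral_of_isMaximal (R := A) M)).ge
    exact (hmax.eq_of_le hM.ne_top (hker.trans h1)).symm⟩
  have hloc : IsLocalHom (algebraMap A E) := ⟨fun a ha => by
    by_contra hna
    have hres : algebraMap A l a = 0 := by
      rw [IsScalarTower.algebraMap_apply A k l,
        show algebraMap A k a = 0 from (IsLocalRing.residue_eq_zero_iff a).mpr hna, map_zero]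
    exact (φ.commutes a ▸ ha.map φ).ne_zero hres⟩
  have : Algebra.Etale A E := by
    obtain ⟨u, v, huv⟩ := hcop
    let P : StandardEtalePair A := ⟨p, hpm, 1, v, u, 0, by linear_combination huv⟩
    have hunit : IsUnit (AdjoinRoot.mk p P.g) := by simp [P]
    exact Algebra.Etale.of_equiv (P.equivAwayAdjoinRoot.trans
      ((IsLocalization.atUnit E _ _ hunit).restrictScalars A).symm)
  let e : (E ⧸ RingHom.ker φ) ≃ₐ[A] l := Ideal.quotientKerAlgEquivOfSurjective hφ
  have hm : IsLocalRing.maximalIdeal E = RingHom.ker φ := (IsLocalRing.eq_maximalIdeal hmax).symm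
  let e' : IsLocalRing.ResidueField E ≃ₐ[A] l := (Ideal.quotientEquivAlgOfEq A hm).trans e
  refine ⟨E, inferInstance, inferInstance, inferInstance, inferInstance, inferInstance, e'.symm.toRingEquiv, fun a => ?_⟩
  exact e'.symm.commutes a

end Groth.Agent.H21Hens
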